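import Cfsg.Agent.Lib.H35.NFi22.M_a
import Cfsg.Agent.Lib.H35.TCFi22A.Chk
import Cfsg.Agent.Lib.H35.NetKit
set_option autoImplicit false
set_option maxRecDepth 100000
set_option linter.all false
set_option Elab.async false
namespace H35.NFi22
open H35.TC H35.Net
open H35.TCFi22A (Lt inv mm extra subs)
/-- network -/
noncomputable def nl_a : List (ℕ × ℕ) := [(nat_lit 2048, m_a_0), (nat_lit 1024, m_a_1), (nat_lit 512, m_a_2), (nat_lit 256, m_a_3), (nat_lit 128, m_a_4), (nat_lit 64, m_a_5), (nat_lit 32, m_a_6), (nat_lit 16, m_a_7), (nat_lit 8, m_a_8), (nat_lit 4, m_a_9), (nat_lit 2, m_a_10), (nat_lit 1, m_a_11), (nat_lit 2, m_a_12), (nat_lit 4, m_a_13), (nat_lit 8, m_a_14), (nat_lit 16, m_a_15), (nat_lit 32, m_a_16), (nat_lit 64, m_a_17), (nat_lit 128, m_a_18), (nat_lit 256, m_a_19), (nat_lit 512, m_a_20), (nat_lit 1024, m_a_21), (nat_lit 2048, m_a_22)]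
/-- network -/
noncomputable def nl_b : List (ℕ × ℕ) := [(nat_lit 2048, m_b_0), (nat_lit 1024, m_b_1), (nat_lit 512, m_b_2), (nat_lit 256, m_b_3), (nat_lit 128, m_b_4), (nat_lit 64, m_b_5), (nat_lit 32, m_b_6), (nat_lit 16, m_b_7), (nat_lit 8, m_b_8), (nat_lit 4, m_b_9), (nat_lit 2, m_b_10), (nat_lit 1, m_b_11), (nat_lit 2, m_b_12), (nat_lit 4, m_b_13), (nat_lit 8, m_b_14), (nat_lit 16, m_b_15), (nat_lit 32, m_b_16), (nat_lit 64, m_b_17), (nat_lit 128, m_b_18), (nat_lit 256, m_b_19), (nat_lit 512, m_b_20), (nat_lit 1024, m_b_21), (nat_lit 2048, m_b_22)]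
/-- network -/
noncomputable def nl_c : List (ℕ × ℕ) := [(nat_lit 2048, m_c_0), (nat_lit 1024, m_c_1), (nat_lit 512, m_c_2), (nat_lit 256, m_c_3), (nat_lit 128, m_c_4), (nat_lit 64, m_c_5), (nat_lit 32, m_c_6), (nat_lit 16, m_c_7), (nat_lit 8, m_c_8), (nat_lit 4, m_c_9), (nat_lit 2, m_c_10), (nat_lit 1, m_c_11), (nat_lit 2, m_c_12), (nat_lit 4, m_c_13), (nat_lit 8, m_c_14), (nat_lit 16, m_c_15), (nat_lit 32, m_c_16), (nat_lit 64, m_c_17), (nat_lit 128, m_c_18), (nat_lit 256, m_c_19), (nat_lit 512, m_c_20), (nat_lit 1024, m_c_21), (nat_lit 2048, m_c_22)]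
/-- network -/
noncomputable def nl_d : List (ℕ × ℕ) := [(nat_lit 2048, m_d_0), (nat_lit 1024, m_d_1), (nat_lit 512, m_d_2), (nat_lit 256, m_d_3), (nat_lit 128, m_d_4), (nat_lit 64, m_d_5), (nat_lit 32, m_d_6), (nat_lit 16, m_d_7), (nat_lit 8, m_d_8), (nat_lit 4, m_d_9), (nat_lit 2, m_d_10), (nat_lit 1, m_d_11), (nat_lit 2, m_d_12), (nat_lit 4, m_d_13), (nat_lit 8, m_d_14), (nat_lit 16, m_d_15), (nat_lit 32, m_d_16), (nat_lit 64, m_d_17), (nat_lit 128, m_d_18), (nat_lit 256, m_d_19), (nat_lit 512, m_d_20), (nat_lit 1024, m_d_21), (nat_lit 2048, m_d_22)]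
/-- network -/
noncomputable def nl_e : List (ℕ × ℕ) := [(nat_lit 2048, m_e_0), (nat_lit 1024, m_e_1), (nat_lit 512, m_e_2), (nat_lit 256, m_e_3), (nat_lit 128, m_e_4), (nat_lit 64, m_e_5), (nat_lit 32, m_e_6), (nat_lit 16, m_e_7), (nat_lit 8, m_e_8), (nat_lit 4, m_e_9), (nat_lit 2, m_e_10), (nat_lit 1, m_e_11), (nat_lit 2, m_e_12), (nat_lit 4, m_e_13), (nat_lit 8, m_e_14), (nat_lit 16, m_e_15), (nat_lit 32, m_e_16), (nat_lit 64, m_e_17), (nat_lit 128, m_e_18), (nat_lit 256, m_e_19), (nat_lit 512, m_e_20), (nat_lit 1024, m_e_21), (nat_lit 2048, m_e_22)]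
/-- network -/
noncomputable def nl_f : List (ℕ × ℕ) := [(nat_lit 2048, m_f_0), (nat_lit 1024, m_f_1), (nat_lit 512, m_f_2), (nat_lit 256, m_f_3), (nat_lit 128, m_f_4), (nat_lit 64, m_f_5), (nat_lit 32, m_f_6), (nat_lit 16, m_f_7), (nat_lit 8, m_f_8), (nat_lit 4, m_f_9), (nat_lit 2, m_f_10), (nat_lit 1, m_f_11), (nat_lit 2, m_f_12), (nat_lit 4, m_f_13), (nat_lit 8, m_f_14), (nat_lit 16, m_f_15), (nat_lit 32, m_f_16), (nat_lit 64, m_f_17), (nat_lit 128, m_f_18), (nat_lit 256, m_f_19), (nat_lit 512, m_f_20), (nat_lit 1024, m_f_21), (nat_lit 2048, m_f_22)]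
/-- network -/
noncomputable def nl_g : List (ℕ × ℕ) := [(nat_lit 2048, m_g_0), (nat_lit 1024, m_g_1), (nat_lit 512, m_g_2), (nat_lit 256, m_g_3), (nat_lit 128, m_g_4), (nat_lit 64, m_g_5), (nat_lit 32, m_g_6), (nat_lit 16, m_g_7), (nat_lit 8, m_g_8), (nat_lit 4, m_g_9), (nat_lit 2, m_g_10), (nat_lit 1, m_g_11), (nat_lit 2, m_g_12), (nat_lit 4, m_g_13), (nat_lit 8, m_g_14), (nat_lit 16, m_g_15), (nat_lit 32, m_g_16), (nat_lit 64, m_g_17), (nat_lit 128, m_g_18), (nat_lit 256, m_g_19), (nat_lit 512, m_g_20), (nat_lit 1024, m_g_21), (nat_lit 2048, m_g_22)]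
/-- network -/
noncomputable def nl_h : List (ℕ × ℕ) := [(nat_lit 2048, m_h_0), (nat_lit 1024, m_h_1), (nat_lit 512, m_h_2), (nat_lit 256, m_h_3), (nat_lit 128, m_h_4), (nat_lit 64, m_h_5), (nat_lit 32, m_h_6), (nat_lit 16, m_h_7), (nat_lit 8, m_h_8), (nat_lit 4, m_h_9), (nat_lit 2, m_h_10), (nat_lit 1, m_h_11), (nat_lit 2, m_h_12), (nat_lit 4, m_h_13), (nat_lit 8, m_h_14), (nat_lit 16, m_h_15), (nat_lit 32, m_h_16), (nat_lit 64, m_h_17), (nat_lit 128, m_h_18), (nat_lit 256, m_h_19), (nat_lit 512, m_h_20), (nat_lit 1024, m_h_21), (nat_lit 2048, m_h_22)]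
/-- network -/
noncomputable def nl_i : List (ℕ × ℕ) := [(nat_lit 2048, m_i_0), (nat_lit 1024, m_i_1), (nat_lit 512, m_i_2), (nat_lit 256, m_i_3), (nat_lit 128, m_i_4), (nat_lit 64, m_i_5), (nat_lit 32, m_i_6), (nat_lit 16, m_i_7), (nat_lit 8, m_i_8), (nat_lit 4, m_i_9), (nat_lit 2, m_i_10), (nat_lit 1, m_i_11), (nat_lit 2, m_i_12), (nat_lit 4, m_i_13), (nat_lit 8, m_i_14), (nat_lit 16, m_i_15), (nat_lit 32, m_i_16), (nat_lit 64, m_i_17), (nat_lit 128, m_i_18), (nat_lit 256, m_i_19), (nat_lit 512, m_i_20), (nat_lit 1024, m_i_21), (nat_lit 2048, m_i_22)]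
/-- network of a letter -/
noncomputable def net : Lt → ℕ → ℕ
  | .a => runNet nl_a
  | .b => runNet nl_b
  | .c => runNet nl_c
  | .d => runNet nl_d
  | .e => runNet nl_e
  | .f => runNet nl_f
  | .g => runNet nl_g
  | .h => runNet nl_h
  | .i => runNet nl_i
theorem ck_a : chkNet 4096 nl_a = true := by decide +kernel
theorem ck_b : chkNet 4096 nl_b = true := by decide +kernel
theorem ck_c : chkNet 4096 nl_c = true := by decide +kernel
theorem ck_d : chkNet 4096 nl_d = true := by decide +kernel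
theorem ck_e : chkNet 4096 nl_e = true := by decide +kernel
theorem ck_f : chkNet 4096 nl_f = true := by decide +kernel
theorem ck_g : chkNet 4096 nl_g = true := by decide +kernel
theorem ck_h : chkNet 4096 nl_h = true := by decide +kernel
theorem ck_i : chkNet 4096 nl_i = true := by decide +kernel
theorem bp : ∀ x, ∃ π : Equiv.Perm ℕ, BP (2 ^ 12) (net x) π := by
  have e : (2 : ℕ) ^ 12 = 4096 := by norm_num
  rw [e]
  intro x
  cases x
  · exact runNet_BP ck_a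
  · exact runNet_BP ck_b
  · exact runNet_BP ck_c
  · exact runNet_BP ck_d
  · exact runNet_BP ck_e
  · exact runNet_BP ck_f
  · exact runNet_BP ck_g
  · exact runNet_BP ck_h
  · exact runNet_BP ck_i
/-- the permutation of a letter -/
noncomputable def π (x : Lt) : Equiv.Perm ℕ := (bp x).choose
theorem hbp : ∀ x, BP (2 ^ 12) (net x) (π x) := fun x => (bp x).choose_spec
end H35.NFi22
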